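import Cfsg.Agent.Lib.M22Fpf19.Fpf

/-!
# Type M(22): the stabiliser of a hexad induces even permutations, and a bound for a centraliser

An element fixing four of the six fixes all, so no odd permutation occurs. With `x` cycling the six in two cycles the
centraliser of `x` then has order at most `81 · 3 · 3 · 32`.
-/

set_option autoImplicit false

namespace Cfsg.Agent.Lib.M22Fpf19

open Cfsg Cfsg.Agent.Lib.PSUAut Cfsg.Agent.Lib.ThreeTransp Cfsg.Agent.Lib.ThreeTransp.PSUSix Cfsg.Agent.Lib.Fischer3T4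
open Cfsg.Agent.Lib.M22Struct66 (nb com2 Counted Chart)
open Equiv.Perm (sign)

variable {G : Type*} [Group G] [Finite G] {D : Set G} {F : Type} [Field F] [Fintype F] {e : Fin 6 → G}
  {blk : G → Fin 3}

theorem sign_cyc : ∀ i j k : Fin 6, i ≠ j → j ≠ k → sign (cyc i j k) = 1 := fun i j k h h' => by
  rw [cyc, map_mul, Equiv.Perm.sign_swap h, Equiv.Perm.sign_swap h', Int.units_mul_self]

theorem fresh : ∀ n m : Fin 6, n < 4 → n < m → ∃ c : Fin 6, n < c ∧ c ≠ m := by decide

theorem two_cycle_sides : ∀ π : Equiv.Perm (Fin 6), π * twoCyc = twoCyc * π → sign π = 1 → π 0 < 3 := by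
  decide +kernel

namespace Setup

variable (hS : Setup D F e blk)
include hS

/-- An element fixing the first three and one more fixes all six. -/
theorem perm_eq_one_of_fix (g : Stab e) (h0 : hS.perm g 0 = 0) (h1 : hS.perm g 1 = 1) (h2 : hS.perm g 2 = 2)
    {l : Fin 6} (hl : 3 ≤ l) (hgl : hS.perm g l = l) : hS.perm g = 1 := by
  classical
  have hC := hS.cnt
  have he := hS.hex
  have hF := hC.card
  have hh := herm (n := 6) (card' hF)
  obtain ⟨C⟩ := hC.chart _ (he.mem 0)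
  have n1 : e 1 ∈ nb D (e 0) := hex_nb he (by decide)
  have n2 : e 2 ∈ nb D (e 0) := hex_nb he (by decide)
  obtain ⟨E, E', hA⟩ := exists_adapted_frame hC C n1 n2 he
  have hfix : ∀ {i}, hS.perm g i = i → Commute (g : G) (e i) := fun {i} hi => by
    have := hS.induces g i
    rwa [hi, mul_inv_eq_iff_eq_mul] at this
  obtain ⟨t, ht⟩ := proj_surjective (C.ψ ⟨(g : G), mem_nbGroup hC (he.mem 0) (hfix h0)⟩)
  have hline : ∀ {y : G} (hy : y ∈ nb D (e 0)), Commute (g : G) y → ∃ c : F, act t (C.pt hy) = c • C.pt hy := by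
    intro y hy hgy
    have hc := (commute_iff_ψ hC C (he.mem 0) (hfix h0) hy).1 hgy
    rw [← ht] at hc
    have hcj : proj t * tv (C.pt hy) * (proj t)⁻¹ = tv (act t (C.pt hy)) := conj_T hF t (C.isPt hy).2
    rw [hc.eq, mul_inv_cancel_right, tv, tv] at hcj
    exact T_line hF (act_ne_zero t (C.isPt hy).1) ((act_form t _ _).trans (C.isPt hy).2) (C.isPt hy).2 hcj.symm
  obtain ⟨a, ha⟩ := hline n1 (hfix h1)
  obtain ⟨b, hb⟩ := hline n2 (hfix h2)
  rw [hA.p1] at ha
  rw [hA.p2] at hb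
  have hcoord : ∀ m : Fin 6, 3 ≤ m → ∀ hm : e m ∈ nb D (e 0), ∃ α β : F, α ≠ 0 ∧ β ≠ 0 ∧
      C.pt hm = α • E 0 + β • E 1 := by
    intro m hm3 hm
    obtain ⟨q1, q2, q3, q4⟩ := line_pt hC he C n1 n2 hA hm3 hm
    have hk : C.pt hm = Cfsg.hermForm 6 F 2 (C.pt hm) (E' 0) • E 0 + Cfsg.hermForm 6 F 2 (C.pt hm) (E' 1) • E 1 := by
      conv_lhs => rw [perp_expand hC he C n1 n2 hA q1 q2, q3, q4, zero_smul, zero_smul, add_zero, add_zero]
    refine ⟨_, _, fun e0 => ?_, fun e0 => ?_, hk⟩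
    · rw [e0, zero_smul, zero_add] at hk
      exact (by decide : ∀ m : Fin 6, 3 ≤ m → m ≠ 2) m hm3
        (he.inj (pt_proportional hC C (he.mem 0) n2 hm (by rw [hA.p2, hk])).symm)
    · rw [e0, zero_smul, add_zero] at hk
      exact (by decide : ∀ m : Fin 6, 3 ≤ m → m ≠ 1) m hm3
        (he.inj (pt_proportional hC C (he.mem 0) n1 hm (by rw [hA.p1, hk])).symm)
  have hab : a = b := by
    have hn : e l ∈ nb D (e 0) := hex_nb he fun h => by subst h; exact absurd hl (by decide)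
    obtain ⟨α, β, hα, hβ, hk⟩ := hcoord l hl hn
    obtain ⟨c, hc⟩ := hline hn (hfix hgl)
    rw [hk, act_add hF, act_smul hF, act_smul hF, ha, hb] at hc
    have c0 := congrArg (fun v => Cfsg.hermForm 6 F 2 v (E' 0)) hc
    have c1 := congrArg (fun v => Cfsg.hermForm 6 F 2 v (E' 1)) hc
    simp [hh.add_left, hh.smul_left, hA.frame.ef] at c0 c1
    have e0 : a = c := mul_right_cancel₀ hα (by linear_combination c0)
    have e1 : b = c := mul_right_cancel₀ hβ (by linear_combination c1)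
    rw [e0, e1]
  refine Equiv.ext fun m => ?_
  rcases (by decide : ∀ m : Fin 6, m = 0 ∨ m = 1 ∨ m = 2 ∨ 3 ≤ m) m with rfl | rfl | rfl | hm
  · exact h0
  · exact h1
  · exact h2
  have hn : e m ∈ nb D (e 0) := hex_nb he fun h => by subst h; exact absurd hm (by decide)
  obtain ⟨α, β, -, -, hk⟩ := hcoord m hm hn
  have hgm : Commute (g : G) (e m) := by
    refine (commute_iff_ψ hC C (he.mem 0) (hfix h0) hn).2 ?_
    rw [← ht]
    have hcj : proj t * tv (C.pt hn) * (proj t)⁻¹ = tv (act t (C.pt hn)) := conj_T hF t (C.isPt hn).2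
    have he' : act t (C.pt hn) = a • C.pt hn := by
      rw [hk, act_add hF, act_smul hF, act_smul hF, ha, hb, ← hab, smul_add, smul_comm a, smul_comm a]
    have ha0 : a ≠ 0 := fun h => act_ne_zero t (C.isPt hn).1 (by rw [he', h, zero_smul])
    rw [he', tv, tv, T_smul hF (C.isPt hn).2 ha0, mul_inv_eq_iff_eq_mul] at hcj
    exact hcj
  exact he.inj ((hS.induces g m).symm.trans (by rw [hgm.eq, mul_inv_cancel_right]; rfl))

/-- Only even permutations of the six. -/
theorem sign_perm (g : Stab e) : sign (hS.perm g) = 1 := by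
  have claim : ∀ n : ℕ, n ≤ 4 → ∃ h : Stab e, sign (hS.perm h) = 1 ∧ ∀ i : Fin 6, (i : ℕ) < n → hS.perm (h * g) i = i := by
    intro n
    induction n with
    | zero => exact fun _ => ⟨1, by simp, fun i hi => absurd hi (Nat.not_lt_zero _)⟩
    | succ n ih =>
      intro hn
      obtain ⟨h, hh, hfix⟩ := ih (by omega)
      set k : Fin 6 := ⟨n, by omega⟩
      set m := hS.perm (h * g) k
      by_cases hmk : m = k
      · refine ⟨h, hh, fun i hi => ?_⟩
        rcases Nat.lt_succ_iff_lt_or_eq.1 hi with h' | h'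
        · exact hfix i h'
        · rw [show i = k from Fin.ext h']; exact hmk
      have hmn : n < (m : ℕ) := by
        by_contra hlt
        rcases lt_or_eq_of_le (not_lt.1 hlt) with h' | h'
        · exact hmk ((hS.perm (h * g)).injective ((hfix m h').trans rfl)).symm.symm
        · exact hmk (Fin.ext h')
      obtain ⟨c, hkc, hcm⟩ := fresh k m (show n < 4 by omega) hmn
      obtain ⟨z, hz⟩ := hS.exists_cyc (i := m) (j := k) (k := c) hmk hcm.symm (ne_of_lt hkc)
      refine ⟨z * h, by rw [map_mul, map_mul, hh, mul_one, hz, sign_cyc m k c hmk (ne_of_lt hkc)], fun i hi => ?_⟩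
      rw [mul_assoc, map_mul, hz, Equiv.Perm.mul_apply]
      rcases Nat.lt_succ_iff_lt_or_eq.1 hi with h' | h'
      · have hik : i < k := h'
        rw [hfix i h', cyc, Equiv.Perm.mul_apply, Equiv.swap_apply_of_ne_of_ne (a := k) (b := c) (ne_of_lt hik)
          (ne_of_lt (hik.trans hkc)), Equiv.swap_apply_of_ne_of_ne (ne_of_lt (hik.trans (show k < m from hmn)))
          (ne_of_lt hik)]
      · rw [show i = k from Fin.ext h']
        show cyc m k c m = k
        rw [cyc, Equiv.Perm.mul_apply, Equiv.swap_apply_of_ne_of_ne hmk hcm.symm, Equiv.swap_apply_left]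
  obtain ⟨h, hh, hfix⟩ := claim 4 le_rfl
  have h1 := hS.perm_eq_one_of_fix (h * g) (hfix 0 (by decide)) (hfix 1 (by decide)) (hfix 2 (by decide))
    (l := 3) le_rfl (hfix 3 (by decide))
  have := congrArg sign h1
  rwa [map_mul, map_mul, hh, one_mul, map_one] at this

end Setup

/-- Counting along an orbit. -/
theorem card_le_orbit {H K : Subgroup G} {α : Type*} [Finite α] (φ : G → α) (A : Set α)
    (hA : ∀ g ∈ H, φ g ∈ A) (hK : ∀ g ∈ H, ∀ g' ∈ H, φ g = φ g' → g'⁻¹ * g ∈ K) :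
    Nat.card H ≤ A.ncard * Nat.card K := by
  classical
  haveI : Fintype G := Fintype.ofFinite G
  haveI : Fintype α := Fintype.ofFinite α
  rw [Set.ncard_eq_toFinset_card', Nat.card_eq_fintype_card, Nat.card_eq_fintype_card, ← Fintype.card_coe]
  have h := Finset.card_le_mul_card_image (Finset.univ : Finset H) (f := fun g : H => φ g) (Fintype.card K) ?_
  · rw [Finset.card_univ] at h
    refine h.trans ?_
    rw [mul_comm, Fintype.card_coe]
    refine Nat.mul_le_mul_right _ (Finset.card_le_card fun b hb => ?_)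
    obtain ⟨g, -, rfl⟩ := Finset.mem_image.1 hb
    simpa using hA g g.2
  · intro b hb
    obtain ⟨g₀, -, hg₀⟩ := Finset.mem_image.1 hb
    rw [← Fintype.card_coe]
    refine Fintype.card_le_of_injective (fun g => ⟨(g₀ : G)⁻¹ * g.1, hK _ g.1.2 _ g₀.2 ?_⟩) fun g g' hgg => ?_
    · rw [(Finset.mem_filter.1 g.2).2, hg₀]
    · exact Subtype.ext (Subtype.ext (mul_left_cancel (congrArg Subtype.val hgg)))

theorem conj_eq_iff_commute (g g' v : G) : g * v * g⁻¹ = g' * v * g'⁻¹ → Commute (g'⁻¹ * g) v := fun h => by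
  refine mul_inv_eq_iff_eq_mul.1 ?_
  calc g'⁻¹ * g * v * (g'⁻¹ * g)⁻¹ = g'⁻¹ * (g * v * g⁻¹) * g' := by group
    _ = v := by rw [h]; group

/-- The members moved to commuting ones. -/
def Moved (D : Set G) (x : G) : Set G := {v | v ∈ D ∧ Commute v (x * v * x⁻¹)}

namespace Setup

variable (hS : Setup D F e blk)
include hS

theorem card_centralizer_le {x : Stab e} (hx : hS.perm x = twoCyc) (hm : (Moved D (x : G)).ncard ≤ 486) {p : G}
    (hp : p ∈ Moved D (x : G))
    (hc : {q | q ∈ Moved D (x : G) ∧ ∀ i, (Commute q (e i) ↔ Commute p (e i))}.ncard ≤ 32)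
    (hone : ∀ g : G, Commute g x → (∀ i, Commute g (e i)) → Commute g p → g = 1) :
    Nat.card (Subgroup.centralizer ({(x : G)} : Set G)) ≤ 23328 := by
  classical
  set C := Subgroup.centralizer ({(x : G)} : Set G)
  have hcom : ∀ {g}, g ∈ C → Commute g (x : G) := fun h => Subgroup.mem_centralizer_singleton_iff.1 h
  have hmove : ∀ i, (x : G) * e i * (x : G)⁻¹ = e (twoCyc i) := fun i => hx ▸ hS.induces x i
  have hnext : ∀ {g : G}, Commute g (x : G) → ∀ {i j}, g * e i * g⁻¹ = e j →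
      g * e (twoCyc i) * g⁻¹ = e (twoCyc j) := fun {g} hg {i j} h => by
    rw [← hmove, ← hmove, ← h]
    calc g * ((x : G) * e i * (x : G)⁻¹) * g⁻¹ = (g * (x : G)) * e i * (g * (x : G))⁻¹ := by group
      _ = ((x : G) * g) * e i * ((x : G) * g)⁻¹ := by rw [hg.eq]
      _ = _ := by group
  have hmv : ∀ {g : G}, Commute g (x : G) → ∀ {v}, v ∈ Moved D (x : G) → g * v * g⁻¹ ∈ Moved D (x : G) := by
    intro g hg v hv
    refine ⟨hS.cnt.conj g v hv.1, ?_⟩
    have : (x : G) * (g * v * g⁻¹) * (x : G)⁻¹ = g * ((x : G) * v * (x : G)⁻¹) * g⁻¹ := by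
      calc _ = ((x : G) * g) * v * ((x : G) * g)⁻¹ := by group
        _ = (g * (x : G)) * v * (g * (x : G))⁻¹ := by rw [hg.eq]
        _ = _ := by group
    rw [this]
    exact (commute_conj_iff g).2 hv.2
  have hem : ∀ i, e i ∈ Moved D (x : G) := fun i => ⟨hS.hex.mem i, by rw [hmove]; exact hS.hex.comm _ _⟩
  -- an element carrying one of the six to one of them permutes them
  have hstab : ∀ {g : G}, Commute g (x : G) → ∀ i j, g * e i * g⁻¹ = e j → g ∈ Stab e := by
    intro g hg i j h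
    have h2 := hnext hg h
    have hcj : IsHex D (MulAut.conj g ∘ e) := ⟨(MulAut.conj g).injective.comp hS.hex.inj,
      fun a => hS.cnt.conj g _ (hS.hex.mem a), fun a b => (hS.hex.comm a b).map (MulAut.conj g),
      by rw [← List.map_ofFn, ← map_list_prod, hS.hex.prod, map_one]⟩
    have hd := (by decide : ∀ i : Fin 6, i ≠ twoCyc i ∧ i ≠ twoCyc (twoCyc i) ∧ twoCyc i ≠ twoCyc (twoCyc i)) i
    have hr := hS.hex.range_eq hS.grp hS.prim hS.type hcj (i := i) (j := twoCyc i) (k := twoCyc (twoCyc i))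
      ⟨j, h.symm⟩ ⟨twoCyc j, h2.symm⟩ ⟨twoCyc (twoCyc j), (hnext hg h2).symm⟩ hd.1 hd.2.1 hd.2.2
    have hp' : ∀ a, ∃ b, e b = g * e a * g⁻¹ := fun a =>
      (Set.ext_iff.1 hr _).1 (Set.mem_range_self (f := MulAut.conj g ∘ e) a)
    choose q hq using hp'
    have hinj : Function.Injective q := fun a b hab => hS.hex.inj <| (MulAut.conj g).injective <| by
      show g * e a * g⁻¹ = g * e b * g⁻¹
      rw [← hq, ← hq, hab]
    exact ⟨Equiv.ofBijective q (Finite.injective_iff_bijective.1 hinj), fun a => (hq a).symm⟩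
  set S0 := C ⊓ Stab e
  set S1 := S0 ⊓ Subgroup.centralizer ({e 0} : Set G)
  set S2 := S1 ⊓ Subgroup.centralizer ({e 3} : Set G)
  have hperm : ∀ {g} (hg : g ∈ S0), hS.perm ⟨g, hg.2⟩ * twoCyc = twoCyc * hS.perm ⟨g, hg.2⟩ := by
    intro g hg
    rw [← hx, ← map_mul, ← map_mul]
    exact congrArg hS.perm (Subtype.ext (hcom hg.1).eq)
  have h1fix : ∀ {g}, g ∈ S1 → ∀ i : Fin 6, i < 3 → Commute g (e i) := by
    intro g hg i hi
    have h0 : g * e 0 * g⁻¹ = e 0 := by
      rw [(show Commute g (e 0) from Subgroup.mem_centralizer_singleton_iff.1 hg.2).eq, mul_inv_cancel_right]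
    have h1 := hnext (hcom hg.1.1) h0
    rcases (by decide : ∀ i : Fin 6, i < 3 → i = 0 ∨ i = twoCyc 0 ∨ i = twoCyc (twoCyc 0)) i hi with rfl | rfl | rfl
    exacts [mul_inv_eq_iff_eq_mul.1 h0, mul_inv_eq_iff_eq_mul.1 h1, mul_inv_eq_iff_eq_mul.1 (hnext (hcom hg.1.1) h1)]
  have h2fix : ∀ {g}, g ∈ S2 → ∀ i, Commute g (e i) := by
    intro g hg i
    have hp' : ∀ {j}, Commute g (e j) → hS.perm ⟨g, hg.1.1.2⟩ j = j := fun {j} hj =>
      hS.hex.inj ((hS.induces ⟨g, hg.1.1.2⟩ j).symm.trans (by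
        show g * e j * g⁻¹ = e j
        rw [hj.eq, mul_inv_cancel_right]))
    have h1 := hS.perm_eq_one_of_fix ⟨g, hg.1.1.2⟩ (hp' (h1fix hg.1 0 (by decide))) (hp' (h1fix hg.1 1 (by decide)))
      (hp' (h1fix hg.1 2 (by decide))) (l := 3) le_rfl (hp' (Subgroup.mem_centralizer_singleton_iff.1 hg.2))
    have := hS.induces ⟨g, hg.1.1.2⟩ i
    rw [h1, Equiv.Perm.one_apply, mul_inv_eq_iff_eq_mul] at this
    exact this
  have b3 : Nat.card S2 ≤ 32 := by
    have := card_le_orbit (H := S2) (K := (⊥ : Subgroup G)) (fun g => g * p * g⁻¹)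
      {q | q ∈ Moved D (x : G) ∧ ∀ i, (Commute q (e i) ↔ Commute p (e i))} (fun g hg => ⟨hmv (hcom hg.1.1.1) hp,
        fun i => by
          conv_lhs => rw [show e i = g * e i * g⁻¹ by rw [(h2fix hg i).eq, mul_inv_cancel_right]]
          exact commute_conj_iff g⟩)
      (fun g hg g' hg' h => Subgroup.mem_bot.2 (hone _ (hcom (mul_mem (inv_mem hg'.1.1.1) hg.1.1.1))
        (h2fix (mul_mem (inv_mem hg') hg)) (conj_eq_iff_commute g g' p h)))
    rw [Subgroup.card_bot, mul_one] at this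
    omega
  have three : ∀ s : Set (Fin 6), s = {i | i < 3} ∨ s = {i | 3 ≤ i} → (e '' s).ncard = 3 := by
    intro s hs
    rw [Set.ncard_image_of_injective _ hS.hex.inj]
    rcases hs with rfl | rfl <;> rw [Set.ncard_eq_toFinset_card'] <;> decide
  have b2 : Nat.card S1 ≤ 3 * Nat.card S2 := by
    refine three _ (Or.inr rfl) ▸ card_le_orbit (H := S1) (K := S2) (fun g => g * e 3 * g⁻¹) _ (fun g hg => ?_) (fun g hg g' hg' h =>
      Subgroup.mem_inf.2 ⟨mul_mem (inv_mem hg') hg, Subgroup.mem_centralizer_singleton_iff.2 (conj_eq_iff_commute g g' _ h).eq⟩)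
    refine ⟨hS.perm ⟨g, hg.1.2⟩ 3, ?_, (hS.induces ⟨g, hg.1.2⟩ 3).symm⟩
    by_contra hlt
    have hfix : hS.perm ⟨g, hg.1.2⟩ (hS.perm ⟨g, hg.1.2⟩ 3) = hS.perm ⟨g, hg.1.2⟩ 3 :=
      hS.hex.inj ((hS.induces ⟨g, hg.1.2⟩ _).symm.trans (by
        show g * e _ * g⁻¹ = e _
        rw [(h1fix hg _ (not_le.1 hlt)).eq, mul_inv_cancel_right]))
    exact hlt (le_of_eq ((hS.perm ⟨g, hg.1.2⟩).injective hfix).symm)
  have b1 : Nat.card S0 ≤ 3 * Nat.card S1 := by
    refine three _ (Or.inl rfl) ▸ card_le_orbit (H := S0) (K := S1) (fun g => g * e 0 * g⁻¹) _ (fun g hg => ?_) (fun g hg g' hg' h =>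
      Subgroup.mem_inf.2 ⟨mul_mem (inv_mem hg') hg, Subgroup.mem_centralizer_singleton_iff.2 (conj_eq_iff_commute g g' _ h).eq⟩)
    exact ⟨hS.perm ⟨g, hg.2⟩ 0, two_cycle_sides _ (hperm hg) (hS.sign_perm _), (hS.induces ⟨g, hg.2⟩ 0).symm⟩
  -- pairs of an element and one of the six
  have b0 : 6 * Nat.card C ≤ 486 * Nat.card S0 := by
    haveI : Fintype G := Fintype.ofFinite G
    let φ : C × Fin 6 → G := fun u => (u.1 : G) * e u.2 * (u.1 : G)⁻¹
    have h := Finset.card_le_mul_card_image (Finset.univ : Finset (C × Fin 6)) (f := φ) (Nat.card S0) ?_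
    · rw [Finset.card_univ, Fintype.card_prod, Fintype.card_fin, ← Nat.card_eq_fintype_card] at h
      rw [mul_comm, mul_comm 486]
      refine h.trans (Nat.mul_le_mul_left _ (le_trans ?_ hm))
      rw [← Set.ncard_coe_finset]
      refine Set.ncard_le_ncard ?_ (Set.toFinite _)
      rintro _ hu
      obtain ⟨u, -, rfl⟩ := Finset.mem_image.1 hu
      exact hmv (hcom u.1.2) (hem u.2)
    · intro b hb
      obtain ⟨u₀, -, hu₀⟩ := Finset.mem_image.1 hb
      rw [← Fintype.card_coe, Nat.card_eq_fintype_card]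
      have hs : ∀ u : {u // u ∈ Finset.univ.filter fun u => φ u = b},
          ((u₀.1 : G)⁻¹ * (u.1.1 : G)) ∈ S0 ∧ ((u₀.1 : G)⁻¹ * (u.1.1 : G)) * e u.1.2 * ((u₀.1 : G)⁻¹ * (u.1.1 : G))⁻¹ = e u₀.2 := by
        intro u
        have hmem : ((u₀.1 : G)⁻¹ * (u.1.1 : G)) ∈ C := mul_mem (inv_mem u₀.1.2) u.1.1.2
        have h : (u.1.1 : G) * e u.1.2 * (u.1.1 : G)⁻¹ = (u₀.1 : G) * e u₀.2 * (u₀.1 : G)⁻¹ :=
          (Finset.mem_filter.1 u.2).2.trans hu₀.symm
        have h' : ((u₀.1 : G)⁻¹ * (u.1.1 : G)) * e u.1.2 * ((u₀.1 : G)⁻¹ * (u.1.1 : G))⁻¹ = e u₀.2 := by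
          calc _ = (u₀.1 : G)⁻¹ * ((u.1.1 : G) * e u.1.2 * (u.1.1 : G)⁻¹) * (u₀.1 : G) := by group
            _ = _ := by rw [h]; group
        exact ⟨⟨hmem, hstab (hcom hmem) _ _ h'⟩, h'⟩
      refine Fintype.card_le_of_injective (fun u => ⟨_, (hs u).1⟩) fun u v huv => ?_
      have hv : (u₀.1 : G)⁻¹ * (u.1.1 : G) = (u₀.1 : G)⁻¹ * (v.1.1 : G) := congrArg Subtype.val huv
      refine Subtype.ext (Prod.ext (Subtype.ext (mul_left_cancel hv)) (hS.hex.inj ?_))
      have := (hs u).2.trans (hs v).2.symm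
      rw [hv] at this
      exact mul_left_cancel (mul_right_cancel this)
  omega

end Setup

/-- The normaliser of a cyclic group of order three is at most twice the centraliser. -/
theorem card_normalizer_le {x : G} (hx : orderOf x = 3) :
    Nat.card (Subgroup.normalizer ((Subgroup.zpowers x : Subgroup G) : Set G)) ≤
      2 * Nat.card (Subgroup.centralizer ({x} : Set G)) := by
  have h := card_le_orbit (H := Subgroup.normalizer ((Subgroup.zpowers x : Subgroup G) : Set G))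
    (K := Subgroup.centralizer ({x} : Set G)) (fun g => g * x * g⁻¹) {x, x⁻¹} (fun g hg => ?_)
    (fun g _ g' _ h => Subgroup.mem_centralizer_singleton_iff.2 (conj_eq_iff_commute g g' x h).eq)
  · refine h.trans (Nat.mul_le_mul_right _ ?_)
    exact (Set.ncard_insert_le _ _).trans (by simp)
  · have hm : g * x * g⁻¹ ∈ Subgroup.zpowers x := ((Subgroup.mem_normalizer_iff.1 hg) x).1 (Subgroup.mem_zpowers x)
    obtain ⟨n, hn⟩ := (Subgroup.mem_zpowers_iff.1 hm)
    rw [← hn, ← zpow_mod_orderOf, hx]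
    rcases (show n % (3 : ℕ) = 0 ∨ n % (3 : ℕ) = 1 ∨ n % (3 : ℕ) = 2 by omega) with h | h | h <;> rw [h]
    · exfalso
      rw [← zpow_mod_orderOf, hx, h, zpow_zero] at hn
      have := conj_eq_one_iff.1 hn.symm
      simp [this] at hx
    · exact Or.inl (zpow_one x)
    · refine Or.inr (eq_inv_of_mul_eq_one_left ?_)
      rw [← zpow_add_one, show (2 : ℤ) + 1 = ((3 : ℕ) : ℤ) by norm_num, zpow_natCast, ← hx, pow_orderOf_eq_one]

end Cfsg.Agent.Lib.M22Fpf19
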