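import Mathlib
import Cfsg.Agent.Lib.PSolvable.Core

/-!
# `GL₂(3)` has order 48 and no normal subgroup of order three
-/

set_option autoImplicit false

namespace Cfsg.Agent.Lib.M22Fpf19

open Cfsg Matrix

local notation "M2" => Matrix (Fin 2) (Fin 2) (ZMod 3)

theorem card_gl_two : Nat.card (GL (Fin 2) (ZMod 3)) = 48 := by
  rw [Matrix.card_GL_field]
  simp [Fin.prod_univ_two, ZMod.card]

theorem no_three_core : ∀ a b c d : ZMod 3,
    (!![a, b; c, d] : M2) * !![a, b; c, d] * !![a, b; c, d] = 1 → (!![a, b; c, d] : M2) ≠ 1 →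
      ((!![1, 1; 0, 1] : M2) * !![a, b; c, d] * !![1, 2; 0, 1] = !![a, b; c, d] ∨
        (!![1, 1; 0, 1] : M2) * !![a, b; c, d] * !![1, 2; 0, 1] = !![a, b; c, d] * !![a, b; c, d]) →
      ((!![1, 0; 1, 1] : M2) * !![a, b; c, d] * !![1, 0; 2, 1] = !![a, b; c, d] ∨
        (!![1, 0; 1, 1] : M2) * !![a, b; c, d] * !![1, 0; 2, 1] = !![a, b; c, d] * !![a, b; c, d]) → False := by
  decide +kernel

theorem unit_upper : (!![1, 1; 0, 1] : M2) * !![1, 2; 0, 1] = 1 ∧ (!![1, 2; 0, 1] : M2) * !![1, 1; 0, 1] = 1 := by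
  decide +kernel

theorem unit_lower : (!![1, 0; 1, 1] : M2) * !![1, 0; 2, 1] = 1 ∧ (!![1, 0; 2, 1] : M2) * !![1, 0; 1, 1] = 1 := by
  decide +kernel

theorem pCore_gl_two : pCore 3 (GL (Fin 2) (ZMod 3)) = ⊥ := by
  haveI : Fact (Nat.Prime 3) := ⟨Nat.prime_three⟩
  set K := pCore 3 (GL (Fin 2) (ZMod 3))
  haveI : K.Characteristic := Lib.PSolvable.pCore_characteristic
  rw [eq_bot_iff]
  intro u hu
  rw [Subgroup.mem_bot]
  by_contra hne
  have hdvd : Nat.card K ∣ 48 := card_gl_two ▸ Subgroup.card_subgroup_dvd_card K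
  have hp : IsPGroup 3 K := Lib.PSolvable.pCore_isPGroup
  obtain ⟨k, hk⟩ := IsPGroup.iff_card.1 hp
  have hk1 : k ≤ 1 := by
    by_contra hlt
    have : 3 ^ 2 ∣ 48 := (pow_dvd_pow 3 (show 2 ≤ k by omega)).trans (hk ▸ hdvd)
    norm_num at this
  have hK : Nat.card K = 3 := by
    rcases Nat.le_one_iff_eq_zero_or_eq_one.1 hk1 with rfl | rfl
    · exact absurd (Subgroup.eq_bot_of_card_eq K (by rw [hk, pow_zero])) (fun h => hne (by rw [h] at hu; exact Subgroup.mem_bot.1 hu))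
    · rw [hk, pow_one]
  have ho : orderOf u = 3 := by
    have h := orderOf_dvd_natCard (⟨u, hu⟩ : K)
    rw [hK, Subgroup.orderOf_mk] at h
    exact ((Nat.dvd_prime Nat.prime_three).1 h).resolve_left fun h1 => hne (orderOf_eq_one_iff.1 h1)
  have hz : Subgroup.zpowers u = K :=
    Subgroup.eq_of_le_of_card_ge (Subgroup.zpowers_le.2 hu) (by rw [hK, Nat.card_zpowers, ho])
  have hcases : ∀ g : GL (Fin 2) (ZMod 3), g * u * g⁻¹ = u ∨ g * u * g⁻¹ = u * u := by
    intro g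
    have hm : g * u * g⁻¹ ∈ Subgroup.zpowers u := hz ▸ (inferInstance : K.Normal).conj_mem u hu g
    obtain ⟨n, hn⟩ := Subgroup.mem_zpowers_iff.1 hm
    rw [← zpow_mod_orderOf, ho] at hn
    rcases (show n % ((3 : ℕ) : ℤ) = 0 ∨ n % ((3 : ℕ) : ℤ) = 1 ∨ n % ((3 : ℕ) : ℤ) = 2 by omega) with h | h | h <;>
      rw [h] at hn
    · exact absurd (conj_eq_one_iff.1 (hn.symm.trans (zpow_zero u))) hne
    · exact Or.inl (hn.symm.trans (zpow_one u))
    · exact Or.inr (hn.symm.trans (zpow_two u))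
  have hu3 : u * u * u = 1 := by
    have := pow_orderOf_eq_one u
    rwa [ho, pow_succ, pow_two] at this
  set m : M2 := (u : M2) with hm
  have hexp : m = !![m 0 0, m 0 1; m 1 0, m 1 1] := Matrix.eta_fin_two m
  refine no_three_core (m 0 0) (m 0 1) (m 1 0) (m 1 1) ?_ ?_ ?_ ?_ <;> rw [← hexp, hm]
  · rw [← Units.val_mul, ← Units.val_mul, hu3, Units.val_one]
  · exact fun h => hne (Units.ext h)
  · rcases hcases ⟨_, _, unit_upper.1, unit_upper.2⟩ with h | h
    exacts [Or.inl (congrArg Units.val h), Or.inr (congrArg Units.val h)]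
  · rcases hcases ⟨_, _, unit_lower.1, unit_lower.2⟩ with h | h
    exacts [Or.inl (congrArg Units.val h), Or.inr (congrArg Units.val h)]

end Cfsg.Agent.Lib.M22Fpf19
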